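import Groth.Agent.CohFlatRS.Resolve
import Groth.Agent.LefPenLib.Bertini

/-!
# The local constant of a family at a discrete valuation ring of a finite extension
-/

set_option autoImplicit false
set_option linter.style.haveILetI false
set_option linter.unusedSectionVars false
set_option backward.isDefEq.respectTransparency false
set_option backward.isDefEq.respectTransparency.types false
set_option maxHeartbeats 2000000

universe u

open CategoryTheory CategoryTheory.Limits AlgebraicGeometry TopologicalSpace IsLocalRing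
open Groth.Agent.MinModel (jη isOpenImmersion_jη range_jη)

noncomputable section

namespace Groth.Agent.CohFlatRS

section Eval

variable {Z : Scheme.{u}} {R : Type u} [CommRing R] (q : Z ⟶ Spec (CommRingCat.of R))

theorem fromSpecStalk_comp (x : Z) :
    Z.fromSpecStalk x ≫ q = Spec.map (CommRingCat.ofHom ((gT x).comp (Coh.toGlobal q))) := by
  refine ext_of_isAffine ?_
  rw [Scheme.Hom.comp_appTop, Scheme.fromSpecStalk_appTop, ← Iso.cancel_iso_inv_left (Scheme.ΓSpecIso (CommRingCat.of R))]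
  rw [← Scheme.ΓSpecIso_inv_naturality]
  ext r
  simp [Coh.toGlobal]
  rfl

theorem eval_toGlobal {A : CommRingCat.{u}} [IsLocalRing A] (ℓ : Spec A ⟶ Z) (β : R →+* A)
    (h : ℓ ≫ q = Spec.map (CommRingCat.ofHom β)) (r : R) :
    Scheme.stalkClosedPointTo ℓ (gT (ℓ (closedPoint A)) (Coh.toGlobal q r)) = β r := by
  let Q : (Spec A ⟶ Spec (CommRingCat.of R)) → A := fun m => Scheme.stalkClosedPointTo m
    ((Spec (CommRingCat.of R)).presheaf.germ ⊤ (m (closedPoint A)) trivial
      ((Scheme.ΓSpecIso (CommRingCat.of R)).inv r))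
  have e : Q (ℓ ≫ q) = Q (Spec.map (CommRingCat.ofHom β)) := by rw [h]
  have h1 : Q (Spec.map (CommRingCat.ofHom β)) = β r := by
    refine (ConcreteCategory.congr_hom (Scheme.germ_stalkClosedPointTo_Spec (CommRingCat.ofHom β)) _).trans ?_
    show β ((Scheme.ΓSpecIso (CommRingCat.of R)).hom ((Scheme.ΓSpecIso (CommRingCat.of R)).inv r)) = β r
    rw [← CommRingCat.comp_apply, Iso.inv_hom_id]
    rfl
  have h2 : Q (ℓ ≫ q) = Scheme.stalkClosedPointTo ℓ (gT (ℓ (closedPoint A)) (Coh.toGlobal q r)) := by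
    simp only [Q]
    rw [Scheme.stalkClosedPointTo_comp]
    exact congrArg (Scheme.stalkClosedPointTo ℓ) (Scheme.Hom.germ_stalkMap_apply q ⊤ _ trivial _)
  rw [← h2, e, h1]

theorem eval_germ {x : Z} {A : CommRingCat.{u}} [IsLocalRing A] (α : Z.presheaf.stalk x ⟶ A) (U : Z.Opens)
    (hx : x ∈ U) (hm : (Spec.map α ≫ Z.fromSpecStalk x) (closedPoint A) ∈ U) (f : Γ(Z, U)) :
    Scheme.stalkClosedPointTo (Spec.map α ≫ Z.fromSpecStalk x) (Z.presheaf.germ U _ hm f) =
      α (Z.presheaf.germ U x hx f) := by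
  have e : Z.presheaf.germ U _ hm ≫ Scheme.stalkClosedPointTo (Spec.map α ≫ Z.fromSpecStalk x) =
      Z.presheaf.germ U x hx ≫ α := by
    simp only [Scheme.germ_stalkClosedPointTo, Scheme.Hom.comp_app, Scheme.fromSpecStalk_app (X := Z) (x := x) hx,
      Category.assoc, Iso.trans_hom, Functor.mapIso_hom, (Spec.map α).app_eq_appLE, Scheme.Hom.appLE_map_assoc,
      Scheme.Hom.map_appLE_assoc]
    simp_rw [← Opens.map_top (Spec.map α).base]
    rw [← (Spec.map α).app_eq_appLE, Scheme.ΓSpecIso_naturality, Iso.inv_hom_id_assoc]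
  exact ConcreteCategory.congr_hom e f

theorem dvd_sub_of_lift {X : Scheme.{u}} {R R' : Type u} [CommRing R] [CommRing R']
    (p : X ⟶ Spec (CommRingCat.of R)) (q : Z ⟶ Spec (CommRingCat.of R')) (ψ : R →+* R') (hh : Z ⟶ X)
    {A : CommRingCat.{u}} [IsLocalRing A] (β : R' →+* A) (ℓ : Spec A ⟶ Z)
    (hℓ : ℓ ≫ q = Spec.map (CommRingCat.ofHom β)) (x : X) (α : X.presheaf.stalk x ⟶ A)
    (hm : ℓ ≫ hh = Spec.map α ≫ X.fromSpecStalk x)
    (hα : Spec.map α ≫ X.fromSpecStalk x ≫ p = Spec.map (CommRingCat.ofHom (β.comp ψ)))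
    {ϖ : R} {s : ∀ x, X.presheaf.stalk x} (hs : IsSec (Coh.toGlobal p ϖ) s) {c : R'}
    (hc : ∀ z, gT z (Coh.toGlobal q (ψ ϖ)) ∣ hh.stalkMap z (s (hh z)) - gT z (Coh.toGlobal q c)) :
    β (ψ ϖ) ∣ α (s x) - β c := by
  let Q : (Spec A ⟶ X) → A := fun m => Scheme.stalkClosedPointTo m (s (m (closedPoint A)))
  have h1 : β (ψ ϖ) ∣ Q (ℓ ≫ hh) - β c := by
    have h := map_dvd (Scheme.stalkClosedPointTo ℓ).hom (hc (ℓ (closedPoint A)))
    rw [map_sub, eval_toGlobal q ℓ β hℓ, eval_toGlobal q ℓ β hℓ] at h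
    simp only [Q]
    rw [Scheme.stalkClosedPointTo_comp]
    exact h
  rw [hm] at h1
  obtain ⟨U, hxU, fU, hfU⟩ := hs x
  have hmU : (Spec.map α ≫ X.fromSpecStalk x) (closedPoint A) ∈ U := by
    have h : (Spec.map α ≫ X.fromSpecStalk x) (closedPoint A) ∈ Set.range (X.fromSpecStalk x) :=
      ⟨Spec.map α (closedPoint A), rfl⟩
    rw [Scheme.range_fromSpecStalk] at h
    exact Specializes.mem_open h U.isOpen hxU
  have h2 : β (ψ ϖ) ∣ α (X.presheaf.germ U x hxU fU) - Q (Spec.map α ≫ X.fromSpecStalk x) := by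
    have h := map_dvd (Scheme.stalkClosedPointTo (Spec.map α ≫ X.fromSpecStalk x)).hom (hfU _ hmU)
    rw [map_sub, eval_toGlobal p _ (β.comp ψ) ((Category.assoc _ _ _).trans hα),
      eval_germ α U hxU hmU fU] at h
    exact h
  have h3 : β (ψ ϖ) ∣ α (X.presheaf.germ U x hxU fU) - α (s x) := by
    have h := map_dvd α.hom (hfU x hxU)
    rw [fromSpecStalk_comp, ← Spec.map_comp] at hα
    rw [map_sub, show α (gT x (Coh.toGlobal p ϖ)) = β (ψ ϖ) from ConcreteCategory.congr_hom (Spec.map_injective hα) ϖ]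
      at h
    exact h
  have := dvd_add (dvd_sub h2 h3) h1
  rwa [sub_sub_sub_cancel_left, sub_add_sub_cancel] at this

end Eval

variable {R : Type u} [CommRing R] [IsDomain R] [IsDiscreteValuationRing R] {C : Scheme.{u}}
  (f : C ⟶ Spec (CommRingCat.of (FractionRing R))) {X : Scheme.{u}} [IsIntegral X]
  (p : X ⟶ Spec (CommRingCat.of R)) [IsProper p] [Flat p] (g : C ⟶ X) (sq : IsPullback g f p (jη R))

include sq in
/-- A finite extension of the base field with a point gives a constant dominating a family in every valuation. -/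
theorem exists_const_local (hC : Curve.IsSmoothProperCurve (FractionRing R) C f) [GeometricallyConnected f]
    {R' : Type u} [CommRing R'] [IsDomain R'] [IsDiscreteValuationRing R'] (ψ : R →+* R')
    (κ : FractionRing R →+* FractionRing R')
    (hκ : κ.comp (algebraMap R (FractionRing R)) = (algebraMap R' (FractionRing R')).comp ψ) (hfin : κ.Finite)
    (t : Spec (CommRingCat.of (FractionRing R')) ⟶ C) (ht : t ≫ f = Spec.map (CommRingCat.ofHom κ))
    {ϖ : R} (hϖ : ϖ ≠ 0) {s : ∀ x, X.presheaf.stalk x} (hs : IsSec (Coh.toGlobal p ϖ) s) :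
    ∃ c : R', ∀ (F' : Type u) [Field F'] (b : FractionRing R' →+* F') (a : X.functionField →+* F'),
      a.comp ((gT (genericPoint X)).comp (Coh.toGlobal p)) = (b.comp (algebraMap R' (FractionRing R'))).comp ψ →
      ∀ (x : X) (W : ValuationSubring F'), (∀ o, a (algebraMap (X.presheaf.stalk x) X.functionField o) ∈ W) →
        (∀ r : R', b (algebraMap R' (FractionRing R') r) ∈ W) →
        ∃ w ∈ W, a (algebraMap (X.presheaf.stalk x) X.functionField (s x)) - b (algebraMap R' (FractionRing R') c) =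
          b (algebraMap R' (FractionRing R') (ψ ϖ)) * w := by
  obtain ⟨hfP, hfS, hCint, hdim⟩ := hC
  haveI := hfP
  haveI := hfS
  haveI := hCint
  let K' := FractionRing R'
  let j' := jη R'
  haveI := isOpenImmersion_jη R'
  have hj : Spec.map (CommRingCat.ofHom κ) ≫ jη R = jη R' ≫ Spec.map (CommRingCat.ofHom ψ) := by
    simp only [jη, ← Spec.map_comp, ← CommRingCat.ofHom_comp, hκ]
  have hψ : Function.Injective ψ := fun u v huv => IsFractionRing.injective R (FractionRing R) (κ.injective (by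
    have h1 := RingHom.congr_fun hκ u
    have h2 := RingHom.congr_fun hκ v
    simp only [RingHom.comp_apply] at h1 h2
    rw [h1, h2, huv]))
  -- the curve over the extension
  let C' := pullback f (Spec.map (CommRingCat.ofHom κ))
  let f' : C' ⟶ Spec (CommRingCat.of (FractionRing R')) := pullback.snd f (Spec.map (CommRingCat.ofHom κ))
  haveI : ConnectedSpace C' := GeometricallyConnected.connectedSpace_of_subsingleton f'
  haveI : CompactSpace C' := QuasiCompact.compactSpace_of_compactSpace f'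
  haveI : IsIntegral C' := CurveCohLib.isIntegral_of_smooth_connected f'
  have hC' : Curve.IsSmoothProperCurve (FractionRing R') C' f' := by
    refine ⟨inferInstance, inferInstance, inferInstance, ?_⟩
    haveI : IsFinite (Spec.map (CommRingCat.ofHom κ)) := (IsFinite.SpecMap_iff _).2 hfin
    haveI : Surjective (Spec.map (CommRingCat.ofHom κ)) := ⟨fun v => ⟨closedPoint _, Subsingleton.elim _ _⟩⟩
    rw [GrpSchLib.IsogSub.topologicalKrullDim_eq_of_isIntegralHom (pullback.fst f (Spec.map (CommRingCat.ofHom κ))),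
      hdim]
  have hH0 := isIso_appTop f' hC'
  -- the model over the extension
  let Y₀ := pullback p (Spec.map (CommRingCat.ofHom ψ))
  let p₀ : Y₀ ⟶ Spec (CommRingCat.of R') := pullback.snd p (Spec.map (CommRingCat.ofHom ψ))
  let i₀ : C' ⟶ Y₀ := pullback.lift (pullback.fst _ _ ≫ g) (f' ≫ jη R') (by
    rw [Category.assoc, sq.w, pullback.condition_assoc, hj, Category.assoc])
  have sq₀ : IsPullback i₀ f' p₀ (jη R') := by
    refine IsPullback.of_right ?_ (pullback.lift_snd _ _ _) (IsPullback.of_hasPullback p (Spec.map (CommRingCat.ofHom ψ)))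
    rw [pullback.lift_fst, ← hj]
    exact (IsPullback.of_hasPullback f (Spec.map (CommRingCat.ofHom κ))).paste_horiz sq
  obtain ⟨Y, hYint, cY, i', hcY, hi', sqY⟩ := exists_integral_model f' p₀ i₀ sq₀
  haveI := hYint
  haveI := hcY
  obtain ⟨Z, q, φ, k, hφ, hkφ, sqZ, hZ, hZint⟩ := exists_resolution f' hC' (cY ≫ p₀) i' sqY
  haveI := hZint
  haveI : IsProper q := hZ.2.1
  obtain ⟨ϖ', hirr⟩ := IsDiscreteValuationRing.exists_irreducible R'
  let t' : Spec (CommRingCat.of (FractionRing R')) ⟶ C' := pullback.lift t (𝟙 _) (by rw [Category.id_comp, ht])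
  have hL := lift_of_point f' hC' hH0 q hZ t' (pullback.lift_snd _ _ _) hirr.maximalIdeal_eq
  have hne : Coh.toGlobal q ϖ' ≠ 0 := fun h0 => by
    have h1 : Coh.toGlobal f' (algebraMap R' (FractionRing R') ϖ') = 0 := by
      have e : k.appTop (Coh.toGlobal q ϖ') = Coh.toGlobal f' (algebraMap R' (FractionRing R') ϖ') := by
        show (q.appTop ≫ k.appTop) ((Scheme.ΓSpecIso (CommRingCat.of R')).inv ϖ') = _
        rw [← Scheme.Hom.comp_appTop, sqZ.w, Scheme.Hom.comp_appTop]
        exact congrArg f'.appTop (ConcreteCategory.congr_hom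
          (Scheme.ΓSpecIso_inv_naturality (CommRingCat.ofHom (algebraMap R' (FractionRing R')))) ϖ').symm
      rw [← e, h0, map_zero]
    haveI : Nonempty (⊤ : C'.Opens) := ⟨⟨genericPoint C', trivial⟩⟩
    haveI : Nontrivial (Coh.Γtop C') := inferInstanceAs (Nontrivial Γ(C', ⊤))
    exact (IsFractionRing.to_map_ne_zero_of_mem_nonZeroDivisors (mem_nonZeroDivisors_of_ne_zero hirr.ne_zero))
      ((Coh.toGlobal f').injective (h1.trans (map_zero _).symm))
  obtain ⟨e, he⟩ := IsDiscreteValuationRing.associated_pow_irreducible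
    (fun h => hϖ (hψ (h.trans (map_zero ψ).symm))) hirr
  have hLϖ : Lift (Coh.toGlobal q) (Coh.toGlobal q (ψ ϖ)) := by
    refine lift_of_associated _ ?_ (lift_pow _ hne hL e)
    rw [← map_pow]
    exact (he.symm.map (Coh.toGlobal q))
  let hh : Z ⟶ X := φ ≫ cY ≫ pullback.fst p (Spec.map (CommRingCat.ofHom ψ))
  have hhp : hh ≫ p = q ≫ Spec.map (CommRingCat.ofHom ψ) := by
    simp only [hh, Category.assoc, pullback.condition]
    rw [← hφ, Category.assoc, Category.assoc]
  have hg : hh.appTop (Coh.toGlobal p ϖ) = Coh.toGlobal q (ψ ϖ) := by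
    show (p.appTop ≫ hh.appTop) ((Scheme.ΓSpecIso (CommRingCat.of R)).inv ϖ) = _
    rw [← Scheme.Hom.comp_appTop, hhp, Scheme.Hom.comp_appTop]
    exact congrArg q.appTop (ConcreteCategory.congr_hom
      (Scheme.ΓSpecIso_inv_naturality (CommRingCat.ofHom ψ)) ϖ).symm
  obtain ⟨c, hc⟩ := hLϖ (fun z => hh.stalkMap z (s (hh z))) (hg ▸ isSec_pullback hh hs)
  refine ⟨c, fun F' _ b a hab x W hWx hWR => ?_⟩
  let ι : ↥W →+* F' := W.subtype
  have hι : Function.Injective ι := Subtype.val_injective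
  let β : R' →+* ↥W := (b.comp (algebraMap R' (FractionRing R'))).codRestrict W.toSubring hWR
  let α : X.presheaf.stalk x →+* ↥W :=
    (a.comp (algebraMap (X.presheaf.stalk x) X.functionField)).codRestrict W.toSubring hWx
  let η : Spec (CommRingCat.of F') ⟶ X := Spec.map (CommRingCat.ofHom a) ≫ X.fromSpecStalk (genericPoint X)
  have hη : η ≫ p = (Spec.map (CommRingCat.ofHom b) ≫ Spec.map (CommRingCat.ofHom κ)) ≫ jη R := by
    simp only [η, jη, Category.assoc, fromSpecStalk_comp, ← Spec.map_comp, ← CommRingCat.ofHom_comp]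
    rw [RingHom.comp_assoc, ← hκ, ← RingHom.comp_assoc] at hab
    exact congrArg (fun (φ : R →+* F') => Spec.map (CommRingCat.ofHom φ)) hab
  let g' : Spec (CommRingCat.of F') ⟶ C' :=
    pullback.lift (sq.lift η (Spec.map (CommRingCat.ofHom b) ≫ Spec.map (CommRingCat.ofHom κ)) hη)
      (Spec.map (CommRingCat.ofHom b)) (sq.lift_snd _ _ _)
  have hg'q : (g' ≫ k) ≫ q = Spec.map (CommRingCat.ofHom ι) ≫ Spec.map (CommRingCat.ofHom β) := by
    rw [Category.assoc, sqZ.w, pullback.lift_snd_assoc]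
    simp only [jη, ← Spec.map_comp, ← CommRingCat.ofHom_comp]
    rfl
  have hg'h : (g' ≫ k) ≫ hh = η := by
    simp only [hh, Category.assoc, reassoc_of% hkφ, reassoc_of% hi', i₀, pullback.lift_fst]
    simp only [g', pullback.lift_fst_assoc, IsPullback.lift_fst]
  let Sq : ValuativeCommSq q := ⟨↥W, F', g' ≫ k, Spec.map (CommRingCat.ofHom β), ⟨hg'q⟩⟩
  have hex : ValuativeCriterion.Existence q := by
    have h : (ValuativeCriterion.Existence ⊓ @QuasiCompact) q := by
      rw [← UniversallyClosed.eq_valuativeCriterion]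
      exact inferInstanceAs (UniversallyClosed q)
    exact h.1
  haveI := hex Sq
  obtain ⟨ℓ, hℓ1, hℓ2⟩ : ∃ ℓ : Spec (CommRingCat.of ↥W) ⟶ Z, Spec.map (CommRingCat.ofHom ι) ≫ ℓ = g' ≫ k ∧
      ℓ ≫ q = Spec.map (CommRingCat.ofHom β) := ⟨Sq.commSq.lift, Sq.commSq.fac_left, Sq.commSq.fac_right⟩
  let m : Spec (CommRingCat.of ↥W) ⟶ X := Spec.map (CommRingCat.ofHom α) ≫ X.fromSpecStalk x
  have hm1 : Spec.map (CommRingCat.ofHom ι) ≫ m = η := by
    simp only [m, η]
    rw [← Spec.map_comp_assoc, ← X.SpecMap_stalkSpecializes_fromSpecStalk ((genericPoint_spec X).specializes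
      (show x ∈ Set.univ from trivial)), ← Spec.map_comp_assoc]
    rfl
  haveI : Nonempty (⊤ : X.Opens) := ⟨⟨x, trivial⟩⟩
  have hαR : α.comp ((gT x).comp (Coh.toGlobal p)) = β.comp ψ := by
    refine RingHom.ext fun r => hι ?_
    have h1 := RingHom.congr_fun hab r
    simp only [RingHom.comp_apply] at h1
    show a (algebraMap (X.presheaf.stalk x) X.functionField (gT x (Coh.toGlobal p r))) = _
    rw [gT, Scheme.algebraMap_germ_eq_germToFunctionField]
    exact h1
  have hm2 : m ≫ p = Spec.map (CommRingCat.ofHom (β.comp ψ)) := by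
    simp only [m, Category.assoc, fromSpecStalk_comp, ← Spec.map_comp, ← CommRingCat.ofHom_comp, hαR]
  have hl2 : (ℓ ≫ hh) ≫ p = Spec.map (CommRingCat.ofHom (β.comp ψ)) := by
    rw [Category.assoc, hhp, reassoc_of% hℓ2]
    simp only [← Spec.map_comp, ← CommRingCat.ofHom_comp]
  let Sq' : ValuativeCommSq p := ⟨↥W, F', η, Spec.map (CommRingCat.ofHom (β.comp ψ)), ⟨by
    rw [← hm1, Category.assoc, hm2]; rfl⟩⟩
  have heq : ℓ ≫ hh = m := by
    haveI := IsSeparated.valuativeCriterion p Sq'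
    exact congrArg CommSq.LiftStruct.l (Subsingleton.elim (α := Sq'.commSq.LiftStruct)
      ⟨ℓ ≫ hh, (by rw [← Category.assoc]; exact (congrArg (· ≫ hh) hℓ1).trans hg'h), hl2⟩ ⟨m, hm1, hm2⟩)
  obtain ⟨w, hw⟩ := dvd_sub_of_lift p q ψ hh (A := CommRingCat.of ↥W) β ℓ hℓ2 x (CommRingCat.ofHom α) heq
    (by rw [← Category.assoc]; exact hm2) hs hc
  refine ⟨ι w, w.2, ?_⟩
  have := congrArg ι hw
  rwa [map_sub, map_mul] at this

end Groth.Agent.CohFlatRS
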