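import Mathlib
import Groth.Prelude.Def_ModelsG
import Groth.Prelude.Def_ClSub2
import Groth.Agent.QCoh.Submod
import Groth.Agent.H26.FibreIdeal
import Groth.Agent.InvX.GenEpi
import Groth.Agent.R1Push.Support

/-!
# Lifting functions modulo a constant to global functions
-/

set_option autoImplicit false
set_option linter.style.haveILetI false
set_option linter.unusedSectionVars false
set_option backward.isDefEq.respectTransparency false
set_option backward.isDefEq.respectTransparency.types false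
set_option maxHeartbeats 800000

universe u

open CategoryTheory CategoryTheory.Limits AlgebraicGeometry TopologicalSpace Opposite

noncomputable section

namespace Groth.Agent.CohFlatRS

variable {Z : Scheme.{u}}

/-- The germ of a global function. -/
abbrev gT (z : Z) : Γ(Z, ⊤) →+* Z.presheaf.stalk z := (Z.presheaf.germ ⊤ z trivial).hom

theorem germ_res {U V : Z.Opens} (h : V ≤ U) (f : Γ(Z, U)) {w : Z} (hw : w ∈ V) :
    Z.presheaf.germ V w hw (Z.presheaf.map (homOfLE h).op f) = Z.presheaf.germ U w (h hw) f :=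
  TopCat.Presheaf.germ_res_apply _ _ _ _ _

/-- A family of germs which is locally a function modulo `t`. -/
def IsSec (t : Γ(Z, ⊤)) (s : ∀ z, Z.presheaf.stalk z) : Prop :=
  ∀ z, ∃ (U : Z.Opens) (_ : z ∈ U) (f : Γ(Z, U)), ∀ w (hw : w ∈ U), gT w t ∣ Z.presheaf.germ U w hw f - s w

/-- Functions modulo `t` come from constants. -/
def Lift {R : Type*} [CommRing R] (φ : R →+* Γ(Z, ⊤)) (t : Γ(Z, ⊤)) : Prop :=
  ∀ s, IsSec t s → ∃ a : R, ∀ z, gT z t ∣ s z - gT z (φ a)

theorem gT_ne_zero [IsIntegral Z] {t : Γ(Z, ⊤)} (ht : t ≠ 0) (z : Z) : gT z t ≠ 0 := fun h =>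
  ht (germ_injective_of_isIntegral Z z (show z ∈ (⊤ : Z.Opens) from trivial) (h.trans (map_zero _).symm))

variable {R : Type*} [CommRing R] (φ : R →+* Γ(Z, ⊤))

theorem lift_one : Lift φ (1 : Γ(Z, ⊤)) := fun s _ => ⟨0, fun z => by rw [map_one]; exact one_dvd _⟩

theorem lift_mul [IsIntegral Z] {u : R} {t : Γ(Z, ⊤)} (hu : φ u ≠ 0) (ht : Lift φ t) (hU : Lift φ (φ u)) :
    Lift φ (φ u * t) := by
  intro s hs
  obtain ⟨a₀, ha₀⟩ := hU s fun z => by
    obtain ⟨U, hz, f, hf⟩ := hs z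
    exact ⟨U, hz, f, fun w hw => (dvd_mul_right _ _).trans (map_mul (gT w) _ _ ▸ hf w hw)⟩
  choose q hq using ha₀
  obtain ⟨a₁, ha₁⟩ := ht q fun z => by
    obtain ⟨U, hz, f, hf⟩ := hs z
    obtain ⟨r, hr⟩ := hf z hz
    obtain ⟨V, hzV, g, hg⟩ := TopCat.Presheaf.exists_germ_eq (C := CommRingCat.{u}) Z.presheaf (x := z)
      (q z + gT z t * r)
    have e : Z.presheaf.germ U z hz f - gT z (φ a₀) = gT z (φ u) * Z.presheaf.germ V z hzV g := by
      rw [hg, mul_add, ← hq, ← mul_assoc, ← map_mul, ← hr]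
      ring
    let fa : Γ(Z, U ⊓ V) := Z.presheaf.map (homOfLE inf_le_left).op f - Z.presheaf.map (homOfLE le_top).op (φ a₀)
    let ug : Γ(Z, U ⊓ V) := Z.presheaf.map (homOfLE le_top).op (φ u) * Z.presheaf.map (homOfLE inf_le_right).op g
    have hzUV : z ∈ U ⊓ V := ⟨hz, hzV⟩
    obtain ⟨W, hzW, i, j, he⟩ := Z.presheaf.germ_eq z hzUV hzUV fa ug (by
      simp only [fa, ug, map_sub, map_mul, germ_res]
      exact e)
    refine ⟨W, hzW, Z.presheaf.map (homOfLE (i.le.trans inf_le_right)).op g, fun w hw => ?_⟩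
    have he' := congrArg (Z.presheaf.germ W w hw) he
    rw [TopCat.Presheaf.germ_res_apply, TopCat.Presheaf.germ_res_apply] at he'
    simp only [fa, ug, map_sub, map_mul, germ_res] at he'
    obtain ⟨r', hr'⟩ := hf w (i.le hw).1
    rw [germ_res]
    refine ⟨r', mul_left_cancel₀ (gT_ne_zero hu w) ?_⟩
    rw [mul_sub, ← hq, ← mul_assoc, ← map_mul, ← hr']
    linear_combination -he'
  refine ⟨a₀ + u * a₁, fun z => ?_⟩
  obtain ⟨r, hr⟩ := ha₁ z
  refine ⟨r, ?_⟩
  rw [map_add, map_mul φ, map_add, map_mul, map_mul, mul_assoc, ← hr, mul_sub, ← hq]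
  ring

theorem lift_pow [IsIntegral Z] {u : R} (hu : φ u ≠ 0) (hU : Lift φ (φ u)) : ∀ n : ℕ, Lift φ (φ u ^ n)
  | 0 => by rw [pow_zero]; exact lift_one φ
  | n + 1 => by rw [pow_succ']; exact lift_mul φ hu (lift_pow hu hU n) hU

theorem lift_of_associated {t t' : Γ(Z, ⊤)} (h : Associated t t') (hl : Lift φ t) : Lift φ t' := by
  have key : ∀ (w : Z) (x : Z.presheaf.stalk w), gT w t' ∣ x ↔ gT w t ∣ x := fun w x =>
    (h.map (gT w)).symm.dvd_iff_dvd_left
  intro s hs
  obtain ⟨a, ha⟩ := hl s fun z => by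
    obtain ⟨U, hz, f, hf⟩ := hs z
    exact ⟨U, hz, f, fun w hw => (key w _).1 (hf w hw)⟩
  exact ⟨a, fun z => (key z _).2 (ha z)⟩

/-- Families pull back. -/
theorem isSec_pullback {W : Scheme.{u}} (h : W ⟶ Z) {t : Γ(Z, ⊤)} {s : ∀ z, Z.presheaf.stalk z} (hs : IsSec t s) :
    IsSec (h.appTop t) (fun w => h.stalkMap w (s (h w))) := fun w => by
  obtain ⟨U, hz, f, hf⟩ := hs (h w)
  refine ⟨h ⁻¹ᵁ U, hz, h.app U f, fun v hv => ?_⟩
  rw [← Scheme.Hom.germ_stalkMap_apply h U v hv]
  show gT v (h.app ⊤ t) ∣ _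
  rw [show gT v (h.app ⊤ t) = h.stalkMap v (gT (h v) t) from (Scheme.Hom.germ_stalkMap_apply h ⊤ v trivial t).symm,
    ← map_sub]
  exact map_dvd _ (hf (h v) hv)

/-- Divisibility at every point of an affine open. -/
theorem mem_span_of_germs {V : Z.Opens} (hV : IsAffineOpen V) (t x : Γ(Z, V))
    (h : ∀ w (hw : w ∈ V), Z.presheaf.germ V w hw t ∣ Z.presheaf.germ V w hw x) : x ∈ Ideal.span {t} := by
  let J : Ideal Γ(Z, V) := (Ideal.span {t}).colon {x}
  suffices J = ⊤ by
    have h1 : (1 : Γ(Z, V)) ∈ J := this ▸ Submodule.mem_top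
    simpa [J, Submodule.mem_colon_singleton] using h1
  by_contra hJ
  obtain ⟨m, hm, hJm⟩ := Ideal.exists_le_maximal J hJ
  let q : (Spec Γ(Z, V) : Scheme.{u}) := ⟨m, hm.isPrime⟩
  let w : Z := hV.fromSpec q
  have hw : w ∈ V := hV.range_fromSpec.le ⟨q, rfl⟩
  have hq : hV.primeIdealOf ⟨w, hw⟩ = q := hV.fromSpec.isEmbedding.injective (hV.fromSpec_primeIdealOf ⟨w, hw⟩)
  letI := QCoh.stalkAlg (X := Z) hw
  haveI := QCoh.isLocalization_stalk' hV hw
  obtain ⟨r, hr⟩ := h w hw
  obtain ⟨⟨b, c⟩, hbc⟩ := IsLocalization.surj (hV.primeIdealOf ⟨w, hw⟩).asIdeal.primeCompl r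
  have he : algebraMap Γ(Z, V) (Z.presheaf.stalk w) (x * c) = algebraMap Γ(Z, V) (Z.presheaf.stalk w) (t * b) := by
    rw [map_mul, map_mul, ← hbc, ← mul_assoc]
    exact congrArg (· * _) hr
  obtain ⟨d, hd⟩ := (IsLocalization.eq_iff_exists (hV.primeIdealOf ⟨w, hw⟩).asIdeal.primeCompl _).1 he
  have hcd : (d : Γ(Z, V)) * c ∈ J := Submodule.mem_colon_singleton.2 (Ideal.mem_span_singleton.2 ⟨(d : Γ(Z, V)) * b, by
    rw [smul_eq_mul]; linear_combination hd⟩)
  have hdc := hJm hcd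
  rw [show m = (hV.primeIdealOf ⟨w, hw⟩).asIdeal by rw [hq]] at hdc
  rcases (Ideal.IsPrime.mem_or_mem (hV.primeIdealOf ⟨w, hw⟩).isPrime hdc) with h1 | h1
  · exact d.2 h1
  · exact c.2 h1

section Fibre

variable {R : Type u} [CommRing R] [IsDomain R] [IsDiscreteValuationRing R] (X : Over (Spec (CommRingCat.of R)))
  {ϖ : R} (hϖ : IsLocalRing.maximalIdeal R = Ideal.span {ϖ})
include hϖ

theorem app_eq_zero_iff {V : X.left.Opens} (hV : IsAffineOpen V) (x : Γ(X.left, V)) :
    (Models.specialFibreIdeal R X).subschemeι.app V x = 0 ↔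
      x ∈ Ideal.span {H26.FibreIdeal.unifOn X ϖ V} := by
  rw [← RingHom.mem_ker, (Models.specialFibreIdeal R X).ker_subschemeι_app ⟨V, hV⟩,
    H26.FibreIdeal.specialFibreIdeal_ideal X hϖ ⟨V, hV⟩]

theorem app_sub_eq_zero {V : X.left.Opens} (hV : IsAffineOpen V) (x y : Γ(X.left, V))
    (h : ∀ w (hw : w ∈ V), gT w (Coh.toGlobal X.hom ϖ) ∣
      X.left.presheaf.germ V w hw x - X.left.presheaf.germ V w hw y) :
    (Models.specialFibreIdeal R X).subschemeι.app V x = (Models.specialFibreIdeal R X).subschemeι.app V y := by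
  rw [← sub_eq_zero, ← map_sub, app_eq_zero_iff X hϖ hV]
  refine mem_span_of_germs hV _ _ fun w hw => ?_
  rw [map_sub, H26.FibreIdeal.unifOn, germ_res]
  exact h w hw

theorem germ_dvd_of_app_eq {V : X.left.Opens} (hV : IsAffineOpen V) (x y : Γ(X.left, V))
    (h : (Models.specialFibreIdeal R X).subschemeι.app V x = (Models.specialFibreIdeal R X).subschemeι.app V y)
    {w : X.left} (hw : w ∈ V) :
    gT w (Coh.toGlobal X.hom ϖ) ∣ X.left.presheaf.germ V w hw x - X.left.presheaf.germ V w hw y := by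
  rw [← sub_eq_zero, ← map_sub, app_eq_zero_iff X hϖ hV, Ideal.mem_span_singleton] at h
  have h' := map_dvd (X.left.presheaf.germ V w hw).hom h
  rw [H26.FibreIdeal.unifOn, germ_res, map_sub] at h'
  exact h'

/-- Constants filling the closed fibre lift. -/
theorem lift_of_surjective (h : Function.Surjective fun a : R =>
    (Models.specialFibreIdeal R X).subschemeι.appTop (Coh.toGlobal X.hom a)) :
    Lift (Coh.toGlobal X.hom) (Coh.toGlobal X.hom ϖ) := by
  intro s hs
  set I := Models.specialFibreIdeal R X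
  set ι := I.subschemeι
  have H : ∀ z, ∃ (U : X.left.Opens) (_ : IsAffineOpen U) (_ : z ∈ U) (f : Γ(X.left, U)),
      ∀ w (hw : w ∈ U), gT w (Coh.toGlobal X.hom ϖ) ∣ X.left.presheaf.germ U w hw f - s w := fun z => by
    obtain ⟨U, hz, f, hf⟩ := hs z
    obtain ⟨V, hV, hzV, hVU'⟩ := exists_isAffineOpen_mem_and_subset (x := z) (U := U) hz
    have hVU : V ≤ U := hVU'
    refine ⟨V, hV, hzV, X.left.presheaf.map (homOfLE hVU).op f, fun w hw => ?_⟩
    rw [germ_res]
    exact hf w (hVU hw)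
  choose U hU hzU f hf using H
  have hcompat : TopCat.Presheaf.IsCompatible I.subscheme.presheaf (fun z => ι ⁻¹ᵁ U z) fun z => ι.app (U z) (f z) := by
    intro a b
    refine TopCat.Presheaf.section_ext I.subscheme.sheaf _ _ _ fun v hv => ?_
    refine ((TopCat.Presheaf.germ_res_apply _ _ _ _ _).trans ?_).trans (TopCat.Presheaf.germ_res_apply _ _ _ _ _).symm
    obtain ⟨V, hV, hvV, hVle⟩ := exists_isAffineOpen_mem_and_subset (x := ι v) (U := U a ⊓ U b) hv
    have he := app_sub_eq_zero X hϖ hV (X.left.presheaf.map (homOfLE fun p hp => (hVle hp).1).op (f a))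
      (X.left.presheaf.map (homOfLE fun p hp => (hVle hp).2).op (f b)) fun w hw => by
        rw [germ_res, germ_res]
        have := dvd_sub (hf a w (hVle hw).1) (hf b w (hVle hw).2)
        rwa [sub_sub_sub_cancel_right] at this
    have he' := congrArg (I.subscheme.presheaf.germ (ι ⁻¹ᵁ V) v hvV) he
    rw [← Scheme.Hom.germ_stalkMap_apply, ← Scheme.Hom.germ_stalkMap_apply, germ_res, germ_res,
      Scheme.Hom.germ_stalkMap_apply, Scheme.Hom.germ_stalkMap_apply] at he'
    exact he'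
  obtain ⟨θ, hθ, -⟩ := TopCat.Sheaf.existsUnique_gluing' I.subscheme.sheaf (fun z => ι ⁻¹ᵁ U z) ⊤
    (fun z => homOfLE le_top) (fun v _ => Opens.mem_iSup.2 ⟨ι v, hzU (ι v)⟩) _ hcompat
  obtain ⟨a, ha⟩ := h θ
  refine ⟨a, fun z => ?_⟩
  have h1 : ι.app (U z) (f z) = ι.app (U z) (X.left.presheaf.map (homOfLE le_top).op (Coh.toGlobal X.hom a)) := by
    rw [← hθ z, ← ha]
    exact (ConcreteCategory.congr_hom (ι.naturality (homOfLE (le_top : U z ≤ ⊤)).op) _).symm
  have h2 := germ_dvd_of_app_eq X hϖ (hU z) _ _ h1 (hzU z)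
  rw [germ_res] at h2
  have := dvd_sub h2 (hf z z (hzU z))
  rwa [sub_sub_sub_cancel_left] at this

/-- If families modulo the uniformiser come from global functions, functions on the closed fibre do. -/
theorem surjective_of_lift (h : Lift (RingHom.id Γ(X.left, ⊤)) (Coh.toGlobal X.hom ϖ)) :
    Function.Surjective (Models.specialFibreIdeal R X).subschemeι.appTop := by
  set I := Models.specialFibreIdeal R X
  set ι := I.subschemeι
  intro θ
  have H : ∀ z : X.left, ∃ (U : X.left.Opens) (_ : IsAffineOpen U) (_ : z ∈ U) (f : Γ(X.left, U)),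
      ι.app U f = I.subscheme.presheaf.map (homOfLE le_top).op θ := fun z => by
    obtain ⟨U, hU, hz, -⟩ := exists_isAffineOpen_mem_and_subset (x := z) (U := ⊤) trivial
    obtain ⟨f, hf⟩ := I.subschemeι_app_surjective ⟨U, hU⟩ (I.subscheme.presheaf.map (homOfLE le_top).op θ)
    exact ⟨U, hU, hz, f, hf⟩
  choose U hU hzU f hf using H
  obtain ⟨a, ha⟩ := h (fun z => X.left.presheaf.germ (U z) z (hzU z) (f z)) fun z => by
    refine ⟨U z, hzU z, f z, fun w hw => ?_⟩
    obtain ⟨V, hV, hwV, hVle⟩ := exists_isAffineOpen_mem_and_subset (x := w) (U := U z ⊓ U w) ⟨hw, hzU w⟩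
    have hres : ∀ (y : X.left) (hle : V ≤ U y), ι.app V (X.left.presheaf.map (homOfLE hle).op (f y)) =
        I.subscheme.presheaf.map (homOfLE le_top).op θ := fun y hle => by
      refine (ConcreteCategory.congr_hom (ι.naturality (homOfLE hle).op) (f y)).trans ?_
      show I.subscheme.presheaf.map _ (ι.app (U y) (f y)) = _
      rw [hf y, ← CommRingCat.comp_apply, ← Functor.map_comp]
      rfl
    have := germ_dvd_of_app_eq X hϖ hV _ _ ((hres z fun p hp => (hVle hp).1).trans (hres w fun p hp => (hVle hp).2).symm) hwV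
    rwa [germ_res, germ_res] at this
  refine ⟨a, TopCat.Presheaf.section_ext I.subscheme.sheaf _ _ _ fun v _ => ?_⟩
  obtain ⟨V, hV, hvV, hVle'⟩ := exists_isAffineOpen_mem_and_subset (x := ι v) (U := U (ι v)) (hzU (ι v))
  have hVle : V ≤ U (ι v) := hVle'
  have key : ι.app V (X.left.presheaf.map (homOfLE hVle).op (f (ι v))) =
      ι.app V (X.left.presheaf.map (homOfLE le_top).op a) := app_sub_eq_zero X hϖ hV _ _ fun w hw => by
    rw [germ_res, germ_res]
    have h1 : gT w (Coh.toGlobal X.hom ϖ) ∣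
        X.left.presheaf.germ (U (ι v)) w (hVle hw) (f (ι v)) - X.left.presheaf.germ (U w) w (hzU w) (f w) := by
      obtain ⟨V', hV', hwV', hV'le⟩ :=
        exists_isAffineOpen_mem_and_subset (x := w) (U := U (ι v) ⊓ U w) ⟨hVle hw, hzU w⟩
      have hres : ∀ (y : X.left) (hle : V' ≤ U y), ι.app V' (X.left.presheaf.map (homOfLE hle).op (f y)) =
          I.subscheme.presheaf.map (homOfLE le_top).op θ := fun y hle => by
        refine (ConcreteCategory.congr_hom (ι.naturality (homOfLE hle).op) (f y)).trans ?_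
        show I.subscheme.presheaf.map _ (ι.app (U y) (f y)) = _
        rw [hf y, ← CommRingCat.comp_apply, ← Functor.map_comp]
        rfl
      have := germ_dvd_of_app_eq X hϖ hV' _ _
        ((hres (ι v) fun p hp => (hV'le hp).1).trans (hres w fun p hp => (hV'le hp).2).symm) hwV'
      rwa [germ_res, germ_res] at this
    have := dvd_add h1 (ha w)
    rwa [sub_add_sub_cancel] at this
  have e : ∀ {A B : X.left.Opens} (hle : A ≤ B) (g : Γ(X.left, B)) (hvA : ι v ∈ A),
      I.subscheme.presheaf.germ (ι ⁻¹ᵁ A) v hvA (ι.app A (X.left.presheaf.map (homOfLE hle).op g)) =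
        I.subscheme.presheaf.germ (ι ⁻¹ᵁ B) v (hle hvA) (ι.app B g) := fun {A B} hle g hvA => by
    rw [← Scheme.Hom.germ_stalkMap_apply, ← Scheme.Hom.germ_stalkMap_apply, germ_res]
  have key' := congrArg (I.subscheme.presheaf.germ (ι ⁻¹ᵁ V) v hvV) key
  rw [e, e] at key'
  show I.subscheme.presheaf.germ (ι ⁻¹ᵁ ⊤) v trivial (ι.app ⊤ a) = I.subscheme.presheaf.germ ⊤ v trivial θ
  rw [← key', hf (ι v)]
  exact TopCat.Presheaf.germ_res_apply _ _ _ _ _

end Fibre

end Groth.Agent.CohFlatRS
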