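import Groth.Agent.CohFlatRS.Const

/-!
# Cohomological flatness of normal models with a point of degree prime to the residue characteristic
-/

set_option autoImplicit false
set_option linter.style.haveILetI false
set_option linter.unusedSectionVars false
set_option backward.isDefEq.respectTransparency false
set_option backward.isDefEq.respectTransparency.types false
set_option maxHeartbeats 2000000

universe u

open CategoryTheory CategoryTheory.Limits AlgebraicGeometry TopologicalSpace IsLocalRing Opposite
open Groth.Agent.MinModel (jη isOpenImmersion_jη range_jη)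
open scoped TensorProduct

noncomputable section

namespace Groth.Agent.CohFlatRS

variable {X : Scheme.{u}} [IsIntegral X]

/-- An element of every local ring is a global function. -/
theorem exists_global (A : X.functionField)
    (h : ∀ x, ∃ o, algebraMap (X.presheaf.stalk x) X.functionField o = A) :
    ∃ a : Γ(X, ⊤), ∀ x, algebraMap (X.presheaf.stalk x) X.functionField (gT x a) = A := by
  have H : ∀ x, ∃ (U : X.Opens) (_ : x ∈ U) (f : Γ(X, U)), ∀ (w : X) (hw : w ∈ U),
      algebraMap (X.presheaf.stalk w) X.functionField (X.presheaf.germ U w hw f) = A := fun x => by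
    obtain ⟨o, ho⟩ := h x
    obtain ⟨U, hx, f, hf⟩ := TopCat.Presheaf.exists_germ_eq (C := CommRingCat.{u}) X.presheaf (x := x) o
    haveI : Nonempty U := ⟨⟨x, hx⟩⟩
    refine ⟨U, hx, f, fun w hw => ?_⟩
    rw [← ho, ← hf, Scheme.algebraMap_germ_eq_germToFunctionField, Scheme.algebraMap_germ_eq_germToFunctionField]
  choose U hU f hf using H
  have hcompat : TopCat.Presheaf.IsCompatible X.presheaf U f := by
    intro a b
    refine TopCat.Presheaf.section_ext X.sheaf _ _ _ fun v hv => ?_
    refine ((TopCat.Presheaf.germ_res_apply _ _ _ _ _).trans ?_).trans (TopCat.Presheaf.germ_res_apply _ _ _ _ _).symm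
    exact IsFractionRing.injective (X.presheaf.stalk v) X.functionField ((hf a v hv.1).trans (hf b v hv.2).symm)
  obtain ⟨θ, hθ, -⟩ := TopCat.Sheaf.existsUnique_gluing' X.sheaf U ⊤ (fun z => homOfLE le_top)
    (fun v _ => Opens.mem_iSup.2 ⟨v, hU v⟩) f hcompat
  refine ⟨θ, fun x => ?_⟩
  refine Eq.trans ?_ (hf x x (hU x))
  rw [← hθ x]
  exact congrArg _ (TopCat.Presheaf.germ_res_apply _ _ _ _ _).symm

variable {R : Type u} [CommRing R] [IsDomain R] [IsDiscreteValuationRing R] {C : Scheme.{u}}
  (f : C ⟶ Spec (CommRingCat.of (FractionRing R)))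
  (p : X ⟶ Spec (CommRingCat.of R)) [IsProper p] [Flat p] (g : C ⟶ X) (sq : IsPullback g f p (jη R))

include sq in
theorem exists_field_hom [IsIntegral C] :
    ∃ σ : FractionRing R →+* X.functionField, σ.comp (algebraMap R _) = (gT (genericPoint X)).comp (Coh.toGlobal p) := by
  haveI : Nonempty (⊤ : X.Opens) := ⟨⟨genericPoint X, trivial⟩⟩
  haveI := isOpenImmersion_jη R
  have hinj : Function.Injective ((gT (genericPoint X)).comp (Coh.toGlobal p)) := by
    refine (injective_iff_map_eq_zero _).2 fun r hr => ?_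
    have h1 : Coh.toGlobal p r = 0 :=
      germ_injective_of_isIntegral X (genericPoint X) (show genericPoint X ∈ (⊤ : X.Opens) from trivial)
        (hr.trans (map_zero _).symm)
    have h2 : g.appTop (Coh.toGlobal p r) = Coh.toGlobal f (algebraMap R (FractionRing R) r) := by
      show (p.appTop ≫ g.appTop) ((Scheme.ΓSpecIso (CommRingCat.of R)).inv r) = _
      rw [← Scheme.Hom.comp_appTop, sq.w, Scheme.Hom.comp_appTop]
      exact congrArg f.appTop (ConcreteCategory.congr_hom
        (Scheme.ΓSpecIso_inv_naturality (CommRingCat.ofHom (algebraMap R (FractionRing R)))) r).symm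
    haveI : Nonempty (⊤ : C.Opens) := ⟨⟨genericPoint C, trivial⟩⟩
    haveI : Nontrivial (Coh.Γtop C) := inferInstanceAs (Nontrivial Γ(C, ⊤))
    rw [h1, map_zero] at h2
    exact IsFractionRing.injective R (FractionRing R)
      (((Coh.toGlobal f).injective (h2.symm.trans (map_zero _).symm)).trans (map_zero _).symm)
  exact ⟨IsFractionRing.lift hinj, RingHom.ext fun r => IsFractionRing.lift_algebraMap hinj r⟩

include sq in
/-- A point over a finite extension lifts functions on the closed fibre, if the degree is invertible. -/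
theorem lift_of_extension (hC : Curve.IsSmoothProperCurve (FractionRing R) C f) [GeometricallyConnected f]
    (hn : Pi1.IsNormalScheme X) {L : Type u} [Field L] [Algebra (FractionRing R) L]
    [FiniteDimensional (FractionRing R) L] [Algebra.IsSeparable (FractionRing R) L]
    (t : Spec (CommRingCat.of L) ⟶ C) (ht : t ≫ f = Spec.map (CommRingCat.ofHom (algebraMap (FractionRing R) L)))
    {F' : Type u} [Field F'] [Algebra X.functionField F'] [Module.Finite X.functionField F'] (b : L →+* F')
    (hab : (algebraMap X.functionField F').comp ((gT (genericPoint X)).comp (Coh.toGlobal p)) =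
      (b.comp (algebraMap (FractionRing R) L)).comp (algebraMap R (FractionRing R)))
    (hdeg : IsUnit ((Module.finrank X.functionField F' : ℕ) : R))
    {ϖ : R} (hϖ : maximalIdeal R = Ideal.span {ϖ}) :
    Lift (RingHom.id Γ(X, ⊤)) (Coh.toGlobal p ϖ) := by
  classical
  intro s hs
  have hϖ0 : ϖ ≠ 0 := fun h => IsDiscreteValuationRing.not_a_field R (by rw [hϖ, h, Ideal.span_singleton_zero])
  let K := FractionRing R
  let aF := algebraMap X.functionField F'
  letI : Algebra R L := ((algebraMap K L).comp (algebraMap R K)).toAlgebra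
  haveI : IsScalarTower R K L := IsScalarTower.of_algebraMap_eq' rfl
  let S := integralClosure R L
  haveI : IsDedekindDomain S := IsIntegralClosure.isDedekindDomain R K L S
  haveI : IsFractionRing S L := integralClosure.isFractionRing_of_finite_extension K L
  haveI : Algebra.IsIntegral R S := IsIntegralClosure.isIntegral_algebra R L
  have hinjRS : Function.Injective (algebraMap R S) := fun u v h =>
    IsFractionRing.injective R K ((algebraMap K L).injective (congrArg Subtype.val h))
  have hϖS : algebraMap R S ϖ ≠ 0 := fun h => hϖ0 (hinjRS (h.trans (map_zero _).symm))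
  let I : Ideal S := Ideal.span {algebraMap R S ϖ}
  have hI : I ≠ 0 := fun h => hϖS (Ideal.span_singleton_eq_bot.1 h)
  let M := {v : IsDedekindDomain.HeightOneSpectrum S // v.asIdeal ∣ I}
  haveI : Finite M := (Ideal.finite_factors hI).to_subtype
  have hM : ∀ m : Ideal S, m.IsMaximal → ∃ v : M, v.1.asIdeal = m := fun m hm => by
    have h1 : (m.comap (algebraMap R S)).IsMaximal := Ideal.isMaximal_comap_of_isIntegral_of_isMaximal m
    have h2 : algebraMap R S ϖ ∈ m := by
      show ϖ ∈ m.comap (algebraMap R S)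
      rw [IsLocalRing.eq_maximalIdeal h1, hϖ]
      exact Ideal.mem_span_singleton_self ϖ
    exact ⟨⟨⟨m, hm.isPrime, fun h => hϖS (by rwa [h, Ideal.mem_bot] at h2)⟩,
      Ideal.dvd_iff_le.2 ((Ideal.span_singleton_le_iff_mem m).2 h2)⟩, rfl⟩
  -- the local constants
  have hloc : ∀ v : M, ∃ (k : ℕ) (γ : S), ∀ δ : S, δ - γ ∈ v.1.asIdeal ^ k → ∀ (x : X) (W : ValuationSubring F'),
      (∀ o, aF (algebraMap (X.presheaf.stalk x) X.functionField o) ∈ W) →
      (∀ u d : S, d ∉ v.1.asIdeal → b u * (b d)⁻¹ ∈ W) →
      ∃ w ∈ W, aF (algebraMap (X.presheaf.stalk x) X.functionField (s x)) - b δ =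
        b (algebraMap K L (algebraMap R K ϖ)) * w := fun v => by
    haveI := v.1.isPrime
    haveI hmax : v.1.asIdeal.IsMaximal := v.1.isMaximal
    obtain ⟨Rv, _, _, _⟩ : ∃ (Rv : Type u) (_ : CommRing Rv) (_ : Algebra S Rv),
        IsLocalization.AtPrime Rv v.1.asIdeal :=
      ⟨Localization.AtPrime v.1.asIdeal, inferInstance, inferInstance, inferInstance⟩
    haveI : IsDomain Rv := IsLocalization.isDomain_of_le_nonZeroDivisors _ v.1.asIdeal.primeCompl_le_nonZeroDivisors
    haveI : IsDiscreteValuationRing Rv :=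
      IsLocalization.AtPrime.isDiscreteValuationRing_of_dedekind_domain S v.1.ne_bot Rv
    have hu : ∀ y : v.1.asIdeal.primeCompl, IsUnit (algebraMap S L y) := fun y => isUnit_iff_ne_zero.2 fun h =>
      y.2 (by rw [IsFractionRing.injective S L (h.trans (map_zero _).symm)]; exact Ideal.zero_mem _)
    letI : Algebra Rv L := (IsLocalization.lift (M := v.1.asIdeal.primeCompl) (S := Rv) hu).toAlgebra
    haveI : IsScalarTower S Rv L := IsScalarTower.of_algebraMap_eq fun y => (IsLocalization.lift_eq hu y).symm
    haveI : IsFractionRing Rv L :=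
      IsFractionRing.isFractionRing_of_isDomain_of_isLocalization v.1.asIdeal.primeCompl Rv L
    let e := FractionRing.algEquiv Rv L
    let ψ : R →+* Rv := (algebraMap S Rv).comp (algebraMap R S)
    let κ : K →+* FractionRing Rv := e.symm.toRingEquiv.toRingHom.comp (algebraMap K L)
    have heψ : ∀ r, algebraMap Rv L (ψ r) = algebraMap K L (algebraMap R K r) := fun r => by
      show algebraMap Rv L (algebraMap S Rv (algebraMap R S r)) = _
      rw [← IsScalarTower.algebraMap_apply S Rv L]
      rfl
    have hκ : κ.comp (algebraMap R K) = (algebraMap Rv (FractionRing Rv)).comp ψ := RingHom.ext fun r => by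
      show e.symm (algebraMap K L (algebraMap R K r)) = algebraMap Rv _ (ψ r)
      rw [← heψ, e.symm.commutes]
    have hfin : κ.Finite :=
      RingHom.Finite.comp (RingHom.Finite.of_surjective _ e.symm.surjective)
        (RingHom.finite_algebraMap.2 ‹FiniteDimensional K L›)
    obtain ⟨c, hc⟩ := exists_const_local f p g sq hC ψ κ hκ hfin
      (Spec.map (CommRingCat.ofHom e.symm.toRingEquiv.toRingHom) ≫ t)
      (by rw [Category.assoc, ht, ← Spec.map_comp, ← CommRingCat.ofHom_comp]) hϖ0 hs
    obtain ⟨⟨u, d⟩, hud⟩ := IsLocalization.surj v.1.asIdeal.primeCompl c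
    obtain ⟨ϖ', hirr⟩ := IsDiscreteValuationRing.exists_irreducible Rv
    have hψ0 : ψ ϖ ≠ 0 := fun h => hϖS (IsLocalization.injective Rv v.1.asIdeal.primeCompl_le_nonZeroDivisors
      (h.trans (map_zero _).symm))
    obtain ⟨k, hk⟩ := IsDiscreteValuationRing.associated_pow_irreducible hψ0 hirr
    obtain ⟨z, hz⟩ : ∃ z : S, 1 - z * d ∈ v.1.asIdeal ^ k := by
      have h1 : v.1.asIdeal ⊔ Ideal.span {(d : S)} = ⊤ :=
        hmax.1.2 _ (lt_of_le_of_ne le_sup_left fun h => d.2 (h.ge (Ideal.mem_sup_right (Ideal.mem_span_singleton_self _))))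
      have h2 : (1 : S) ∈ v.1.asIdeal ^ k ⊔ Ideal.span {(d : S)} := by
        rw [Ideal.pow_sup_eq_top h1]; trivial
      obtain ⟨i, hi, j, hj, hij⟩ := Submodule.mem_sup.1 h2
      obtain ⟨z, rfl⟩ := Ideal.mem_span_singleton'.1 hj
      exact ⟨z, by rw [← hij]; simpa using hi⟩
    refine ⟨k, u * z, fun δ hδ x W hWx hWS => ?_⟩
    let bv : FractionRing Rv →+* F' := b.comp e.toRingEquiv.toRingHom
    have hbv : ∀ r, bv (algebraMap Rv _ r) = b (algebraMap Rv L r) := fun r => congrArg b (e.commutes r)
    have hWR : ∀ r : Rv, bv (algebraMap Rv _ r) ∈ W := fun r => by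
      obtain ⟨⟨u', d'⟩, hud'⟩ := IsLocalization.surj v.1.asIdeal.primeCompl r
      have h := congrArg (fun q => b (algebraMap Rv L q)) hud'
      simp only [map_mul, ← IsScalarTower.algebraMap_apply S Rv L] at h
      have hd0 : b (algebraMap S L d') ≠ 0 := (map_ne_zero b).2 (hu d').ne_zero
      rw [hbv, (eq_mul_inv_iff_mul_eq₀ hd0).2 h]
      exact hWS u' d' d'.2
    obtain ⟨w, hwW, hw⟩ := hc F' bv aF (by
      rw [hab]
      refine RingHom.ext fun r => ?_
      show b (algebraMap K L (algebraMap R K r)) = bv (algebraMap Rv _ (ψ r))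
      rw [hbv, heψ]) x W hWx hWR
    have hdvd : ψ ϖ ∣ algebraMap S Rv δ - c := by
      have h1 : algebraMap S Rv (δ - u * z) ∈ Ideal.span {ψ ϖ} := by
        rw [Ideal.span_singleton_eq_span_singleton.2 hk, ← Ideal.span_singleton_pow, ← hirr.maximalIdeal_eq,
          ← IsLocalization.AtPrime.map_eq_maximalIdeal v.1.asIdeal Rv, ← Ideal.map_pow]
        exact Ideal.mem_map_of_mem _ hδ
      have h2 : algebraMap S Rv (1 - z * d) ∈ Ideal.span {ψ ϖ} := by
        rw [Ideal.span_singleton_eq_span_singleton.2 hk, ← Ideal.span_singleton_pow, ← hirr.maximalIdeal_eq,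
          ← IsLocalization.AtPrime.map_eq_maximalIdeal v.1.asIdeal Rv, ← Ideal.map_pow]
        exact Ideal.mem_map_of_mem _ hz
      have h3 := Ideal.mem_span_singleton.1 (Ideal.sub_mem _ h1 (Ideal.mul_mem_left _ c h2))
      have h4 : algebraMap S Rv (δ - u * z) - c * algebraMap S Rv (1 - z * d) = algebraMap S Rv δ - c := by
        simp only [map_sub, map_mul, map_one]
        linear_combination algebraMap S Rv z * hud
      rwa [h4] at h3
    obtain ⟨r, hr⟩ := hdvd
    refine ⟨w - bv (algebraMap Rv _ r), W.toSubring.sub_mem hwW (hWR r), ?_⟩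
    have h5 : b δ = bv (algebraMap Rv _ (algebraMap S Rv δ)) := by
      rw [hbv, ← IsScalarTower.algebraMap_apply S Rv L]; rfl
    have h6 : b (algebraMap K L (algebraMap R K ϖ)) = bv (algebraMap Rv _ (ψ ϖ)) := by rw [hbv, heψ]
    rw [h5, h6, mul_sub, ← hw, eq_add_of_sub_eq hr, map_add, map_add, map_mul, map_mul]
    ring
  choose k γ hγ using hloc
  obtain ⟨γ₀, hγ₀⟩ := Ideal.exists_forall_sub_mem_ideal (I := fun v : M => v.1.asIdeal ^ k v) (fun v v' hne =>
    Ideal.isCoprime_iff_sup_eq.2 (Ideal.pow_sup_pow_eq_top (Ideal.IsMaximal.coprime_of_ne v.1.isMaximal v'.1.isMaximal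
      fun h => hne (Subtype.ext (IsDedekindDomain.HeightOneSpectrum.ext h))))) γ
  let εF : X.functionField := gT (genericPoint X) (Coh.toGlobal p ϖ)
  have hab' : ∀ r, aF (gT (genericPoint X) (Coh.toGlobal p r)) = b (algebraMap K L (algebraMap R K r)) :=
    RingHom.congr_fun hab
  have hgT : ∀ (x : X) (h : Γ(X, ⊤)),
      algebraMap (X.presheaf.stalk x) X.functionField (gT x h) = gT (genericPoint X) h := fun x h => by
    haveI : Nonempty (⊤ : X.Opens) := ⟨⟨x, trivial⟩⟩
    exact Scheme.algebraMap_germ_eq_germToFunctionField (X := X) (U := ⊤) (x := x) trivial h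
  -- the constant
  obtain ⟨u, hu⟩ := hdeg.exists_left_inv
  let A : X.functionField := gT (genericPoint X) (Coh.toGlobal p u) * Algebra.trace X.functionField F' (b γ₀)
  have key : ∀ x, ∃ o, algebraMap (X.presheaf.stalk x) X.functionField (s x - gT x (Coh.toGlobal p ϖ) * o) = A := by
    intro x
    let α : X.presheaf.stalk x →+* F' := aF.comp (algebraMap (X.presheaf.stalk x) X.functionField)
    have hεb : b (algebraMap K L (algebraMap R K ϖ)) = aF εF := (hab' ϖ).symm
    have hε0 : aF εF ≠ 0 := by
      rw [← hεb]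
      exact (map_ne_zero b).2 ((map_ne_zero _).2 (IsFractionRing.to_map_ne_zero_of_mem_nonZeroDivisors
        (mem_nonZeroDivisors_of_ne_zero hϖ0)))
    let y : F' := (α (s x) - b γ₀) / aF εF
    have hyW : ∀ W : ValuationSubring F', Set.range α ⊆ W.toSubring → y ∈ W := fun W hW => by
      have hWx : ∀ o, α o ∈ W := fun o => hW ⟨o, rfl⟩
      have hWR : ∀ r, b (algebraMap K L (algebraMap R K r)) ∈ W := fun r => by
        rw [← hab', ← hgT x]
        exact hWx _
      have hWS : ∀ d : S, b d ∈ W := fun d => by
        obtain ⟨P, hP, hP0⟩ := d.2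
        let ρ : R →+* ↥W := ((b.comp (algebraMap K L)).comp (algebraMap R K)).codRestrict W.toSubring hWR
        have hint : IsIntegral ↥W (b (d : L)) := ⟨P.map ρ, hP.map ρ, by
          rw [Polynomial.eval₂_map, show (algebraMap ↥W F').comp ρ = b.comp (algebraMap R L) from rfl,
            ← Polynomial.hom_eval₂, hP0, map_zero]⟩
        obtain ⟨w, hw⟩ := IsIntegrallyClosed.isIntegral_iff.1 hint
        exact hw ▸ w.2
      let ρS : S →+* ↥W := (b.comp (algebraMap S L)).codRestrict W.toSubring hWS
      obtain ⟨m, hm, hPm⟩ := Ideal.exists_le_maximal ((maximalIdeal ↥W).comap ρS)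
        (Ideal.IsPrime.ne_top inferInstance)
      obtain ⟨v, rfl⟩ := hM m hm
      obtain ⟨w, hwW, hw⟩ := hγ v γ₀ (hγ₀ v) x W hWx fun u' d hd => by
        obtain ⟨e', he'⟩ := (IsLocalRing.notMem_maximalIdeal.1 fun h => hd (hPm h) : IsUnit (ρS d))
        have h1 : ((e'⁻¹ : (↥W)ˣ) : F') * b d = 1 := by
          have := congrArg (fun q : ↥W => (q : F')) (Units.inv_mul e')
          simp only [MulMemClass.coe_mul, OneMemClass.coe_one] at this
          rwa [show (b (d : L)) = ((e' : ↥W) : F') by rw [he']; rfl]
        rw [← eq_inv_of_mul_eq_one_left h1]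
        exact W.toSubring.mul_mem (hWS u') (e'⁻¹ : (↥W)ˣ).1.2
      show (α (s x) - b γ₀) / aF εF ∈ W
      rw [show α (s x) - b γ₀ = aF εF * w from hεb ▸ hw, mul_div_cancel_left₀ _ hε0]
      exact hwW
    have hy : y ∈ (integralClosure (Subring.closure (Set.range α)) F').toSubring := by
      rw [← iInf_valuationSubring_superset, Subring.mem_iInf]
      exact fun W => hyW W.1 W.2
    letI : Algebra (X.presheaf.stalk x) F' := α.toAlgebra
    haveI : IsScalarTower (X.presheaf.stalk x) X.functionField F' := IsScalarTower.of_algebraMap_eq' rfl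
    letI : Algebra (X.presheaf.stalk x) (Subring.closure (Set.range α)) :=
      (α.codRestrict (Subring.closure (Set.range α)) fun o => Subring.subset_closure ⟨o, rfl⟩).toAlgebra
    haveI : IsScalarTower (X.presheaf.stalk x) (Subring.closure (Set.range α)) F' :=
      IsScalarTower.of_algebraMap_eq' rfl
    haveI : Algebra.IsIntegral (X.presheaf.stalk x) (Subring.closure (Set.range α)) := ⟨fun q => by
      have hq : (q : F') ∈ α.range :=
        (Subring.closure_le.2 (by rintro _ ⟨o, rfl⟩; exact ⟨o, rfl⟩) : Subring.closure (Set.range α) ≤ α.range) q.2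
      obtain ⟨o, ho⟩ := hq
      rw [show q = algebraMap (X.presheaf.stalk x) (Subring.closure (Set.range α)) o from Subtype.ext ho.symm]
      exact isIntegral_algebraMap⟩
    have hy' : IsIntegral (X.presheaf.stalk x) y := isIntegral_trans y hy
    haveI := (hn x).2
    obtain ⟨o, ho⟩ := IsIntegrallyClosed.isIntegral_iff.1 (Algebra.isIntegral_trace (L := X.functionField) hy')
    refine ⟨gT x (Coh.toGlobal p u) * o, ?_⟩
    have htr : Algebra.trace X.functionField F' (α (s x) - b γ₀) =
        εF * algebraMap (X.presheaf.stalk x) X.functionField o := by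
      rw [ho, ← smul_eq_mul, ← map_smul, Algebra.smul_def]
      exact congrArg _ (mul_div_cancel₀ _ hε0).symm
    have hu' : gT (genericPoint X) (Coh.toGlobal p u) * (Module.finrank X.functionField F' : X.functionField) = 1 := by
      rw [← map_natCast ((gT (genericPoint X)).comp (Coh.toGlobal p)), RingHom.comp_apply, ← map_mul]
      exact (congrArg (gT (genericPoint X)) ((map_mul (Coh.toGlobal p) u _).symm.trans
        ((congrArg (Coh.toGlobal p) hu).trans (map_one _)))).trans (map_one _)
    rw [map_sub, show α (s x) = algebraMap X.functionField F' (algebraMap (X.presheaf.stalk x) X.functionField (s x))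
      from rfl, Algebra.trace_algebraMap, nsmul_eq_mul] at htr
    rw [map_sub, map_mul, map_mul, hgT, hgT]
    linear_combination gT (genericPoint X) (Coh.toGlobal p u) * htr -
      algebraMap (X.presheaf.stalk x) X.functionField (s x) * hu'
  obtain ⟨a, ha⟩ := exists_global A fun x => (key x).imp' _ fun _ h => h
  refine ⟨a, fun x => ?_⟩
  obtain ⟨o, ho⟩ := key x
  refine ⟨o, ?_⟩
  rw [RingHom.id_apply, ← IsFractionRing.injective (X.presheaf.stalk x) X.functionField (ho.trans (ha x).symm)]
  ring

end Groth.Agent.CohFlatRS
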