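import Groth.Agent.CohFlatRS.Main

/-!
# The two cases: a section, or residue characteristic zero
-/

set_option autoImplicit false
set_option linter.style.haveILetI false
set_option linter.unusedSectionVars false
set_option backward.isDefEq.respectTransparency false
set_option backward.isDefEq.respectTransparency.types false
set_option maxHeartbeats 800000

universe u

open CategoryTheory CategoryTheory.Limits AlgebraicGeometry TopologicalSpace IsLocalRing Opposite
open Groth.Agent.MinModel (jη isOpenImmersion_jη range_jη)
open scoped TensorProduct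

noncomputable section

namespace Groth.Agent.CohFlatRS

/-- A flat scheme over a discrete valuation ring with integral generic fibre and domains as local rings is integral. -/
theorem isIntegral_of_model {R : Type u} [CommRing R] [IsDomain R] [IsDiscreteValuationRing R] {C X : Scheme.{u}}
    [IsIntegral C] (f : C ⟶ Spec (CommRingCat.of (FractionRing R))) (p : X ⟶ Spec (CommRingCat.of R)) [Flat p]
    (g : C ⟶ X) (sq : IsPullback g f p (jη R)) (hn : Pi1.IsNormalScheme X) : IsIntegral X := by
  have hgen : ∀ z : X, g (genericPoint C) ⤳ z := fun z => by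
    obtain ⟨w, hwz, hw⟩ := Flat.generalizingMap (f := p) (genericPoint_specializes (p z))
    obtain ⟨a, ha⟩ := (range_jη R).ge hw
    obtain ⟨v, hv, -⟩ := Scheme.Pullback.exists_preimage_pullback w a ha.symm
    have hc : g (sq.isoPullback.inv v) = w := by
      rw [← Scheme.Hom.comp_apply, IsPullback.isoPullback_inv_fst]
      exact hv
    exact (((genericPoint_specializes _).map g.continuous).trans (specializes_of_eq hc)).trans hwz
  have h : IsGenericPoint (g (genericPoint C)) (Set.univ : Set X) :=
    isGenericPoint_iff_specializes.2 fun z => ⟨fun _ => trivial, fun _ => hgen z⟩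
  haveI : IrreducibleSpace X := (irreducibleSpace_def X).2 h.isIrreducible
  haveI : ∀ x : X, IsDomain (X.presheaf.stalk x) := fun x => (hn x).1
  haveI : AlgebraicGeometry.IsReduced X := isReduced_of_isReduced_stalk X
  exact isIntegral_of_irreducibleSpace_of_isReduced X

variable {X : Scheme.{u}} [IsIntegral X] {R : Type u} [CommRing R] [IsDomain R] [IsDiscreteValuationRing R]
  [CharZero (FractionRing R)] {C : Scheme.{u}} (f : C ⟶ Spec (CommRingCat.of (FractionRing R)))
  (p : X ⟶ Spec (CommRingCat.of R)) [IsProper p] [Flat p] (g : C ⟶ X) (sq : IsPullback g f p (jη R))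

include sq in
theorem lift_of_section (hC : Curve.IsSmoothProperCurve (FractionRing R) C f) [GeometricallyConnected f]
    (hn : Pi1.IsNormalScheme X) (σ : Spec (CommRingCat.of R) ⟶ X) (hσ : σ ≫ p = 𝟙 _)
    {ϖ : R} (hϖ : maximalIdeal R = Ideal.span {ϖ}) :
    Lift (RingHom.id Γ(X, ⊤)) (Coh.toGlobal p ϖ) := by
  haveI := hC.2.2.1
  obtain ⟨σF, hσF⟩ := exists_field_hom f p g sq
  refine lift_of_extension f p g sq hC hn (L := FractionRing R)
    (sq.lift (jη R ≫ σ) (𝟙 _) (by rw [Category.assoc, hσ, Category.comp_id, Category.id_comp]))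
    ((sq.lift_snd _ _ _).trans ?_) (F' := X.functionField) σF ?_ ?_ hϖ
  · rw [Algebra.algebraMap_self, CommRingCat.ofHom_id, Spec.map_id]
  · rw [Algebra.algebraMap_self, Algebra.algebraMap_self, RingHom.id_comp, RingHom.comp_id, hσF]
  · rw [Module.finrank_self, Nat.cast_one]
    exact isUnit_one

include sq in
theorem lift_of_charZero (hC : Curve.IsSmoothProperCurve (FractionRing R) C f) [GeometricallyConnected f]
    (hn : Pi1.IsNormalScheme X) [CharZero (ResidueField R)]
    {ϖ : R} (hϖ : maximalIdeal R = Ideal.span {ϖ}) :
    Lift (RingHom.id Γ(X, ⊤)) (Coh.toGlobal p ϖ) := by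
  haveI := hC.2.2.1
  haveI := hC.1
  obtain ⟨σF, hσF⟩ := exists_field_hom f p g sq
  let K := FractionRing R
  haveI : CompactSpace C := QuasiCompact.compactSpace_of_compactSpace f
  obtain ⟨c, -, hc⟩ := IsClosed.exists_closed_singleton (isClosed_univ (X := C)) Set.univ_nonempty
  let L := C.residueField c
  let φ := Spec.preimage (C.fromSpecResidueField c ≫ f)
  have hφ : φ.hom.Finite := by
    rw [← IsFinite.SpecMap_iff, Spec.map_preimage]
    rw [isClosed_singleton_iff_isClosedImmersion] at hc
    rw [isFinite_iff_locallyOfFiniteType_of_jacobsonSpace]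
    infer_instance
  letI : Algebra K L := φ.hom.toAlgebra
  haveI : FiniteDimensional K L := hφ
  letI : Algebra K X.functionField := σF.toAlgebra
  let B := X.functionField ⊗[K] L
  haveI : Nontrivial B := Module.nontrivial_of_finrank_pos (R := X.functionField) (by
    rw [Module.finrank_baseChange]; exact Module.finrank_pos)
  obtain ⟨m, hm⟩ := Ideal.exists_maximal B
  letI : Field (B ⧸ m) := Ideal.Quotient.field m
  have hcomm : ∀ r : K, algebraMap X.functionField (B ⧸ m) (σF r) =
      ((Ideal.Quotient.mk m).comp (Algebra.TensorProduct.includeRight : L →ₐ[K] B).toRingHom) (algebraMap K L r) :=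
    fun r => by
      show Ideal.Quotient.mk m (algebraMap X.functionField B (σF r)) = Ideal.Quotient.mk m _
      refine congrArg (Ideal.Quotient.mk m) ?_
      exact (IsScalarTower.algebraMap_apply K X.functionField B r).symm.trans
        ((Algebra.TensorProduct.includeRight : L →ₐ[K] B).commutes r).symm
  refine lift_of_extension f p g sq hC hn (L := L) (C.fromSpecResidueField c) ?_ (F' := B ⧸ m)
    ((Ideal.Quotient.mk m).comp (Algebra.TensorProduct.includeRight : L →ₐ[K] B).toRingHom) ?_ ?_ hϖ
  · exact (Spec.map_preimage _).symm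
  · rw [← hσF]
    exact RingHom.ext fun r => hcomm _
  · have hpos : Module.finrank X.functionField (B ⧸ m) ≠ 0 := Module.finrank_pos.ne'
    by_contra hu
    have h := (IsLocalRing.residue_eq_zero_iff _).2 ((IsLocalRing.mem_maximalIdeal _).2 hu)
    rw [map_natCast, Nat.cast_eq_zero] at h
    exact hpos h

end Groth.Agent.CohFlatRS
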