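import Groth.Agent.CohFlatRS.Lift
import Groth.Agent.RegModel.Exists
import Groth.Agent.H26.VertApply
import Groth.Agent.H26.PointConst
import Groth.Agent.H26.SectionFibre
import Groth.Agent.H26.CompList
import Groth.Agent.H26.Chain
import Groth.Agent.H26.FibreIdeal
import Groth.Agent.GeomField.GlobalFunctions
import Groth.Agent.S3344
import Groth.Agent.GrpSchLib.IsogSub
import Groth.Agent.CurveCohLib.SmoothCurve

/-!
# Regular models above a model, with a rational point
-/

set_option autoImplicit false
set_option linter.style.haveILetI false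
set_option linter.unusedSectionVars false
set_option backward.isDefEq.respectTransparency false
set_option backward.isDefEq.respectTransparency.types false
set_option maxHeartbeats 800000

universe u

open CategoryTheory CategoryTheory.Limits AlgebraicGeometry TopologicalSpace IsLocalRing
open Groth.Agent.MinModel (jη isOpenImmersion_jη range_jη)
open Groth.Agent.NormSeq (Nice)

noncomputable section

namespace Groth.Agent.CohFlatRS

open Groth.Agent.RegModel

variable {R : Type u} [CommRing R] [IsDomain R] [IsDiscreteValuationRing R] {C : Scheme.{u}}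
  (f : C ⟶ Spec (CommRingCat.of (FractionRing R)))

/-- An integral proper model of a smooth proper curve is dominated by a regular one. -/
theorem exists_resolution (hC : Curve.IsSmoothProperCurve (FractionRing R) C f) {Y : Scheme.{u}} [IsIntegral Y]
    (p₀ : Y ⟶ Spec (CommRingCat.of R)) [IsProper p₀] (i : C ⟶ Y) (sq₀ : IsPullback i f p₀ (jη R)) :
    ∃ (Z : Scheme.{u}) (q : Z ⟶ Spec (CommRingCat.of R)) (φ : Z ⟶ Y) (k : C ⟶ Z),
      φ ≫ p₀ = q ∧ k ≫ φ = i ∧ IsPullback k f q (jη R) ∧ Models.IsRegularProperModel R Z q C f ∧ IsIntegral Z := by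
  obtain ⟨hfP, hfS, hCint, hdim⟩ := hC
  haveI := hfP
  haveI := hfS
  haveI := hCint
  haveI := isOpenImmersion_jη R
  haveI : IsOpenImmersion i := MorphismProperty.of_isPullback sq₀.flip (isOpenImmersion_jη R)
  have hgen₀ : i (genericPoint C) = genericPoint Y := genericPoint_eq_of_isOpenImmersion i
  have hj : ∀ a, jη R a = genericPoint ↥(Spec (CommRingCat.of R)) := H26.HorizDeg.range_specMap_fraction
  haveI : IsNoetherianRing (CommRingCat.of R) := inferInstanceAs (IsNoetherianRing R)
  haveI : IsDomain (CommRingCat.of R) := inferInstanceAs (IsDomain R)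
  haveI : IsLocallyNoetherian Y := LocallyOfFiniteType.isLocallyNoetherian p₀
  haveI : CompactSpace Y := QuasiCompact.compactSpace_of_compactSpace p₀
  haveI : Y.IsSeparated := ⟨by
    rw [← Limits.terminal.comp_from p₀]
    infer_instance⟩
  haveI : AlgebraicGeometry.IsNoetherian Y := {}
  have hV : Pi1.IsNormalScheme C := fun c =>
    normal_of_regular (GrpSchLib.isRegularLocalRing_stalk_of_smooth f c)
  have hb : ∀ w : ↥(pullback f (cK R)), IsDomain ((pullback f (cK R)).presheaf.stalk w) ∧
      IsIntegrallyClosed ((pullback f (cK R)).presheaf.stalk w) := fun w =>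
    normal_of_regular (GrpSchLib.isRegularLocalRing_stalk_of_smooth (pullback.snd f (cK R)) w)
  haveI hfin := isFinite_normalization f p₀ i sq₀ hb
  haveI := Synt29.isIntegral_normalization Y
  obtain ⟨g, sq, hgι⟩ := exists_square f p₀ i sq₀ hV
  obtain ⟨hνgen, hνbir, hνpre⟩ := Synt29.normalization_generic Y
  haveI : IsLocallyNoetherian (Curv2.normalization Y) :=
    LocallyOfFiniteType.isLocallyNoetherian (Curv2.normalizationι Y)
  haveI : CompactSpace (Curv2.normalization Y) :=
    QuasiCompact.compactSpace_of_compactSpace (Curv2.normalizationι Y)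
  haveI : AlgebraicGeometry.IsNoetherian (Curv2.normalization Y) := {}
  have hn := NormCurve.isNormalScheme_normalization Y
  have hS : topologicalKrullDim ↥(Spec (CommRingCat.of R)) ≤ 1 := by
    refine (PrimeSpectrum.topologicalKrullDim_eq_ringKrullDim (R := R)).trans_le ?_
    exact (IsPrincipalIdealRing.ringKrullDim_eq_one R (IsDiscreteValuationRing.not_isField R)).le
  have hdY : topologicalKrullDim Y ≤ 2 := H26.DedMin.dim_le_two (jη R) hj f p₀ i sq₀ hgen₀ hS hdim
  have hc : ∀ z, IsDomain (Curv2.cpl ((Curv2.normalization Y).presheaf.stalk z)) ∧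
      IsIntegrallyClosed (Curv2.cpl ((Curv2.normalization Y).presheaf.stalk z)) :=
    cpl_normal f (Curv2.normalizationι Y ≫ p₀) g sq hV hb hn
  have hN : Nice (Curv2.normalization Y) :=
    { integral := inferInstance
      noeth := inferInstance
      normal := hn
      fin := fun Z' _ g' _ hg' _ _ => RegRes.isFinite_normalizationι_of_birational g' hg' hn fun z => by
        haveI := (hn z).2
        haveI : IsDomain (EGA4.Cpl ((Curv2.normalization Y).presheaf.stalk z)) := (hc z).1
        haveI : _root_.IsReduced (EGA4.Cpl ((Curv2.normalization Y).presheaf.stalk z)) := inferInstance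
        exact NormSeq.finBir_of_isReduced_cpl
      dim := fun z => (NormSeq.dim_le (Curv2.normalizationι Y) hνbir z).trans
        ((SchTop.ringKrullDim_stalk_le _).trans hdY) }
  have hs := finite_singular f (Curv2.normalizationι Y ≫ p₀) g sq hN
  obtain ⟨Z, h, hZint, hh, hbir, -, hreg⟩ := SurfRes.exists_resolution_cpl _ _ hN hs le_rfl fun z _ => hc z
  haveI := hZint
  haveI := hh
  have hφ : IsIso ((h ≫ Curv2.normalizationι Y).stalkMap (genericPoint Z)) :=
    NormSeq.isIso_stalkMap_comp h _ hbir hνbir
  have hCreg : ∀ c : C, IsRegularLocalRing (C.presheaf.stalk c) ∧ ringKrullDim (C.presheaf.stalk c) ≤ 1 := fun c =>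
    ⟨GrpSchLib.isRegularLocalRing_stalk_of_smooth f c, (SchTop.ringKrullDim_stalk_le c).trans hdim.le⟩
  obtain ⟨k, sqk, hkφ⟩ := H26.DedMin.isPullback_of_modification (jη R) hj hCreg f p₀ i sq₀ hgen₀
    (h ≫ Curv2.normalizationι Y) hφ
  haveI : IsOpenImmersion k := MorphismProperty.of_isPullback sqk.flip (isOpenImmersion_jη R)
  have hflat : Flat ((h ≫ Curv2.normalizationι Y) ≫ p₀) :=
    flat_of_square f _ k sqk (genericPoint_eq_of_isOpenImmersion k)
  exact ⟨Z, _, h ≫ Curv2.normalizationι Y, k, rfl, hkφ, sqk,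
    ⟨⟨hflat, inferInstance, inferInstance, k, sqk⟩, inferInstance, hreg⟩, hZint⟩

/-- A flat proper scheme with integral generic fibre contains an integral model. -/
theorem exists_integral_model [IsIntegral C] {Y₀ : Scheme.{u}} (p : Y₀ ⟶ Spec (CommRingCat.of R)) [Flat p]
    (i : C ⟶ Y₀) (sq : IsPullback i f p (jη R)) :
    ∃ (Y : Scheme.{u}) (_ : IsIntegral Y) (c : Y ⟶ Y₀) (i' : C ⟶ Y),
      IsClosedImmersion c ∧ i' ≫ c = i ∧ IsPullback i' f (c ≫ p) (jη R) := by
  have hgen : ∀ z : Y₀, i (genericPoint C) ⤳ z := fun z => by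
    obtain ⟨w, hwz, hw⟩ := Flat.generalizingMap (f := p) (genericPoint_specializes (p z))
    obtain ⟨a, ha⟩ := (range_jη R).ge hw
    obtain ⟨v, hv, -⟩ := Scheme.Pullback.exists_preimage_pullback w a ha.symm
    have hc : i (sq.isoPullback.inv v) = w := by
      rw [← Scheme.Hom.comp_apply, IsPullback.isoPullback_inv_fst]
      exact hv
    exact (((genericPoint_specializes _).map i.continuous).trans (specializes_of_eq hc)).trans hwz
  have h : IsGenericPoint (i (genericPoint C)) (Set.univ : Set Y₀) :=
    isGenericPoint_iff_specializes.2 fun z => ⟨fun _ => trivial, fun _ => hgen z⟩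
  haveI : IrreducibleSpace Y₀ := (irreducibleSpace_def Y₀).2 h.isIrreducible
  let J := Y₀.nilradical
  haveI : IsReduced J.subscheme := H23.RedSub.isReduced_nilradical Y₀
  have hsupp : Set.range J.subschemeι = Set.univ := by
    rw [J.range_subschemeι]
    simp [J]
  haveI : IrreducibleSpace J.subscheme := by
    let e := J.subschemeι.isClosedEmbedding.isEmbedding.toHomeomorph.trans
      ((Homeomorph.setCongr hsupp).trans (Homeomorph.Set.univ Y₀))
    exact e.symm.surjective.irreducibleSpace e.symm.continuous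
  haveI : IsIntegral J.subscheme := isIntegral_of_irreducibleSpace_of_isReduced _
  obtain ⟨i', hi'⟩ := H23.RedSub.exists_lift_closed i J.subschemeι (hsupp ▸ Set.subset_univ _)
  refine ⟨J.subscheme, inferInstance, J.subschemeι, i', inferInstance, hi', ?_⟩
  refine ⟨⟨by rw [← Category.assoc, hi']; exact sq.w⟩, ⟨PullbackCone.IsLimit.mk _
    (fun s => sq.lift (s.fst ≫ J.subschemeι) s.snd (by rw [Category.assoc]; exact s.condition))
    (fun s => (cancel_mono J.subschemeι).1 (by rw [Category.assoc, hi', IsPullback.lift_fst]))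
    (fun s => sq.lift_snd _ _ _) fun s m h₁ h₂ => sq.hom_ext ?_ ?_⟩⟩
  · rw [IsPullback.lift_fst, ← h₁, Category.assoc, hi']
  · rw [IsPullback.lift_snd, h₂]

/-- Geometrically connected smooth proper curves have only constant functions. -/
theorem isIso_appTop (hC : Curve.IsSmoothProperCurve (FractionRing R) C f) [GeometricallyConnected f] :
    IsIso f.appTop := by
  let k := FractionRing R
  obtain ⟨hfP, hfS, hCint, -⟩ := hC
  haveI := hfP
  haveI := hfS
  haveI := hCint
  letI : C.Over (Spec (CommRingCat.of k)) := ⟨f⟩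
  haveI : IsProper (C ↘ Spec (CommRingCat.of k)) := hfP
  haveI : GeometricallyConnected (C ↘ Spec (CommRingCat.of k)) := ‹GeometricallyConnected f›
  haveI : GeometricallyReduced (C ↘ Spec (CommRingCat.of k)) := by
    haveI : Smooth (C ↘ Spec (CommRingCat.of k)) := hfS
    rw [GeometricallyReduced.eq_geometrically]
    intro K _ t Z fst snd h
    haveI : Smooth snd := MorphismProperty.of_isPullback h inferInstance
    exact GrpSchLib.isReduced_of_smooth_field snd
  letI := GeomField.globalAlgebra k C
  have h1 := GeomField.finrank_globalFunctions_eq_one k C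
  haveI : Nontrivial Γ(C, ⊤) := Module.nontrivial_of_finrank_pos (R := k) (by omega)
  have hb : Function.Bijective (algebraMap k Γ(C, ⊤)) :=
    Algebra.bijective_algebraMap_iff.mpr (Subalgebra.bot_eq_top_iff_finrank_eq_one.mpr h1).symm
  have hi : Function.Bijective (Scheme.ΓSpecIso (CommRingCat.of k)).inv.hom :=
    ConcreteCategory.bijective_of_isIso _
  have hb' : Function.Bijective (f.appTop.hom ∘ (Scheme.ΓSpecIso (CommRingCat.of k)).inv.hom) := by exact hb
  exact (ConcreteCategory.isIso_iff_bijective _).2 ((Function.Bijective.of_comp_iff _ hi).mp hb')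

/-- Over a rational point the functions on the closed fibre are constants. -/
theorem lift_of_point (hC : Curve.IsSmoothProperCurve (FractionRing R) C f) (hH0 : IsIso f.appTop)
    {X : Scheme.{u}} [IsIntegral X] (p : X ⟶ Spec (CommRingCat.of R)) (hX : Models.IsRegularProperModel R X p C f)
    (s : Spec (CommRingCat.of (FractionRing R)) ⟶ C) (hs : s ≫ f = 𝟙 _)
    {ϖ : R} (hϖ : maximalIdeal R = Ideal.span {ϖ}) :
    Lift (Coh.toGlobal p) (Coh.toGlobal p ϖ) := by
  classical
  obtain ⟨hfl, -, -, g, sq⟩ := hX.1
  haveI : IsProper p := hX.2.1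
  haveI : IsProper (Over.mk p).hom := hX.2.1
  haveI : Flat (Over.mk p).hom := hfl
  haveI : IsIntegral (Over.mk p).left := ‹IsIntegral X›
  haveI := hC.2.2.1
  let M : MinModel.Model C f := ⟨X, p, g, sq, hX⟩
  haveI := hC.1
  haveI : IsLocallyNoetherian X := LocallyOfFiniteType.isLocallyNoetherian p
  haveI : IsOpenImmersion g := MorphismProperty.of_isPullback sq.flip (isOpenImmersion_jη R)
  have hdim : topologicalKrullDim X = 2 := by
    rw [topologicalKrullDim, Order.krullDim_eq_of_orderIso irreducibleSetEquivPoints]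
    refine le_antisymm ?_ ?_
    · rw [Order.krullDim_eq_iSup_coheight_of_nonempty]
      refine WithBot.coe_le_coe.2 (iSup_le fun z => ?_)
      have h := M.dim_le hC.2.2.2 z
      rw [ringKrullDim_stalk_eq_coheight] at h
      exact WithBot.coe_le_coe.1 h
    haveI : CompactSpace C := QuasiCompact.compactSpace_of_compactSpace f
    obtain ⟨c₀, -, hc₀⟩ := IsClosed.exists_closed_singleton (isClosed_univ (X := C)) Set.univ_nonempty
    have hc₀g : c₀ ≠ genericPoint C := fun h => by
      haveI : Subsingleton C := ⟨fun u v => by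
        have hu : ∀ w : C, w = c₀ := fun w => (h ▸ genericPoint_specializes w : c₀ ⤳ w).mem_closed hc₀ rfl
        exact (hu u).trans (hu v).symm⟩
      have h0 : topologicalKrullDim C ≤ 0 := topologicalKrullDim_zero_of_discreteTopology _
      rw [hC.2.2.2] at h0
      exact absurd h0 (by decide)
    have hga : p (g c₀) = genericPoint (Spec (CommRingCat.of R)) := M.mem_range.1 ⟨c₀, rfl⟩
    obtain ⟨b, hb, hpb⟩ : ∃ b, g c₀ ⤳ b ∧ p b = closedPoint R :=
      p.isClosedMap.specializingMap (hga ▸ genericPoint_specializes (closedPoint R) : p (g c₀) ⤳ closedPoint R)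
    have h1 : b < g c₀ := lt_iff_le_not_ge.2 ⟨hb, fun h => by
      have := (Specializes.antisymm hb h).eq
      rw [← this] at hpb
      exact H26.HorizDeg.generic_ne_closed (hga.symm.trans hpb)⟩
    have h2 : g c₀ < genericPoint X := lt_iff_le_not_ge.2 ⟨genericPoint_specializes _, fun h => hc₀g
      (g.isOpenEmbedding.injective (((genericPoint_specializes (g c₀)).antisymm h).eq.symm.trans
        (genericPoint_eq_of_isOpenImmersion g).symm))⟩
    exact Order.LTSeries.length_le_krullDim (((RelSeries.singleton _ b).snoc (g c₀) h1).snoc (genericPoint X) (by simpa using h2))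
  obtain ⟨n, Γ, hΓ⟩ := H26.CompList.exists_componentList (X := Over.mk p) hdim
  obtain ⟨⟨i, x, hxi, -, hres, -, -, hm1⟩, -⟩ := S3344.result R C X f p hC hH0 hX Γ hΓ s hs
  obtain ⟨L, hL⟩ := H26.VertModel.exists_inverses hX hΓ
  have hconn := H26.VertModel.isConnected hC hH0 hX
  obtain ⟨S, c, -, hc1, -, hcf⟩ := H26.Chain.exists_fibre_chain (H26.VertModel.mkData hX hΓ L hL) hconn
  obtain ⟨-, hprod⟩ := H26.FibreIdeal.result (Over.mk p) Γ hΓ hX.2.2
  have hd : Models.multGcd R (Over.mk p) Γ = 1 :=
    Nat.dvd_one.1 (hm1 ▸ (Finset.gcd_dvd (Finset.mem_univ i) : Models.multGcd R (Over.mk p) Γ ∣ _))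
  have hfld : H26.Chain.Fld (Models.specialFibreIdeal R (Over.mk p)) := by
    have h := hcf (Fin.last S)
    rw [hc1] at h
    simp only [hd, Nat.div_one] at h
    rwa [← hprod] at h
  set Z := Models.specialFibreIdeal R (Over.mk p) with hZ
  have hxZ : x ∈ Set.range Z.subschemeι := by
    rw [Z.range_subschemeι]
    show x ∈ ((Models.specialFibreIdeal R (Over.mk p)).support : Set (Over.mk p).left)
    have hxs : p x = closedPoint R := by
      obtain ⟨v, rfl⟩ := hxi
      show ((Γ i).ι ≫ (Over.mk p).hom) v = _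
      rw [(Γ i).w, Scheme.Hom.comp_apply]
      generalize (Γ i).curve.hom v = u
      refine PrimeSpectrum.ext ?_
      show Ideal.comap (IsLocalRing.residue R) u.asIdeal = IsLocalRing.maximalIdeal R
      rw [(Ideal.eq_bot_or_top u.asIdeal).resolve_right u.isPrime.ne_top, ← RingHom.ker_eq_comap_bot,
        IsLocalRing.ker_residue]
    rw [Models.specialFibreIdeal, Scheme.IdealSheafData.support_comap]
    show p x ∈ ((Curv2.idealSheaf R (maximalIdeal R)).support : Set (Spec (CommRingCat.of R)))
    rw [hxs, Curv2.idealSheaf, Scheme.IdealSheafData.coe_support_ofIdealTop,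
      Spec_zeroLocus]
    refine (PrimeSpectrum.mem_zeroLocus _ _).2 fun r ha => ?_
    obtain ⟨b, hb, hbr⟩ := (Ideal.mem_map_iff_of_surjective _
      (Scheme.ΓSpecIso (CommRingCat.of R)).symm.commRingCatIsoToRingEquiv.surjective).1 ha
    exact (Scheme.ΓSpecIso (CommRingCat.of R)).symm.commRingCatIsoToRingEquiv.injective hbr ▸ hb
  obtain ⟨w, hwx⟩ := hxZ
  have hsurj := H26.PointConst.surjective_of_point (X := Over.mk p) Z.subschemeι hfld.1 w (hwx.symm ▸ hres)
  refine lift_of_surjective (Over.mk p) hϖ fun θ => ?_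
  obtain ⟨a, ha⟩ := hsurj θ
  exact ⟨a, ha⟩

end Groth.Agent.CohFlatRS
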